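import Cfsg.Agent.Lib.Orth.Eichler

/-!
# `Ω` and Eichler transformations over an arbitrary field

For a form with two orthogonal hyperbolic pairs `(e,f)`, `(a,b)`:
* `exists_move_norm'` : `⟨U_e, U_f⟩` is transitive on vectors of a given non-zero norm;
* `omega_le_eichPair` : `Ω ≤ ⟨U_e, U_f⟩`;
* `eich_mem_omega` : `U_e ≤ Ω` when there is a scalar `≠ 0, 1`.
-/

set_option autoImplicit false
set_option linter.unusedSectionVars false

namespace Cfsg.Agent.ChevOrth

open Cfsg Matrix Module Cfsg.Agent.Orth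
open QuadraticMap (polar)
open scoped commutatorElement

variable {ι : Type} [Fintype ι] [DecidableEq ι] {F : Type*} [Field F]
variable {Q : QuadraticForm F (ι → F)} {e f a b : ι → F}

/-- `⟨U_e, U_f⟩` is transitive on vectors of a given non-zero norm. -/
theorem exists_move_norm' (h : HPair Q e f) (h' : HPair Q a b) (ha' : a ∈ perp Q e f)
    (hb' : b ∈ perp Q e f) (hQ : Q.polarBilin.Nondegenerate) (hn : 3 ≤ Fintype.card ι)
    {x : ι → F} (hQx : Q x ≠ 0) : ∃ g ∈ eichPair Q e f, ap g x = e + Q x • f := by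
  obtain ⟨g, hg, a₀, b₀, w, hb, hw, hgx⟩ := h.exists_move_coord hQ hn
    (fun h0 : x = 0 => hQx (by simp [h0]))
  obtain ⟨g', hg', hg'x⟩ := h.exists_move_plane hw a₀ hb
  have hd : a₀ * b₀ + Q w = Q x := by rw [← h.Q_comb hw a₀ b₀, ← hgx, Q_ap]
  rw [hd] at hg'x
  set c := Q x / b₀ with hc
  have hc0 : c ≠ 0 := div_ne_zero hQx hb
  set w1 := (c / b₀) • a + b with hw1d
  have hw1 : w1 ∈ perp Q e f := add_mem (Submodule.smul_mem _ _ ha') hb'
  have hQw1 : Q w1 = c / b₀ := by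
    rw [hw1d, Q_add, Q_smul, pl_smul_left, h'.qe, h'.qf, h'.pf]; ring
  have hz : polar ⇑Q w1 a = 1 := by
    rw [hw1d, pl_add_left, pl_smul_left, pl_self, h'.qe, pl_comm Q b a, h'.pf]; ring
  set w2 := (1 - Q x / b₀) • a with hw2d
  have hw2 : w2 ∈ perp Q e f := Submodule.smul_mem _ _ ha'
  have e1 : ap (eich Q e w1) (c • e + b₀ • f) = (0 : F) • e + b₀ • f + b₀ • w1 := by
    have := h.eich_left_ap hw1 (zero_mem _) c b₀
    rw [add_zero, pl_zero_right, sub_zero, zero_add, hQw1, div_mul_cancel₀ _ hb, sub_self] at this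
    exact this
  have e2 : ap (eich Q f w2) ((0 : F) • e + b₀ • f + b₀ • w1) =
      (0 : F) • e + Q x • f + b₀ • w1 := by
    rw [h.eich_right_ap hw2 (Submodule.smul_mem _ _ hw1), zero_smul F w2, add_zero, mul_zero,
      sub_zero, pl_smul_right, hw2d, pl_smul_left, pl_comm Q a w1, hz]
    congr 3
    field_simp
    ring
  obtain ⟨g'', hg'', hg''x⟩ := h.exists_move_plane (Submodule.smul_mem _ b₀ hw1) 0 hQx
  refine ⟨g'' * eich Q f w2 * eich Q e w1 * g' * g,
    mul_mem (mul_mem (mul_mem (mul_mem hg'' (eich_right_mem_eichPair hw2))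
      (eich_left_mem_eichPair hw1)) hg') hg, ?_⟩
  simp only [ap_mul]
  rw [hgx, hg'x, e1, e2, hg''x, Q_smul, hQw1, hc]
  congr 1
  rw [show (0 * Q x + b₀ * b₀ * (Q x / b₀ / b₀)) / Q x = 1 by field_simp; ring, one_smul]

/-- `Ω ≤ ⟨U_e, U_f⟩`. -/
theorem omega_le_eichPair (hG : Orth.Good Q) (h : HPair Q e f) (h' : HPair Q a b)
    (ha' : a ∈ perp Q e f) (hb' : b ∈ perp Q e f) (hn : 3 ≤ Fintype.card ι) :
    Omega F ⇑Q ≤ eichPair Q e f := by
  rw [← h.eichGen_eq hG.nd hn]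
  refine commutator_le_of_refl hG _ fun u v hu _ => ?_
  rw [refl_quad_eq]
  set v' := ap (refl Q v) u
  have huv : Q v' = Q u := Q_ap _ _
  obtain ⟨g, hg, hgu⟩ := exists_move_norm' h h' ha' hb' hG.nd hn hu
  obtain ⟨g', hg', hgv⟩ := exists_move_norm' h h' ha' hb' hG.nd hn (x := v') (huv ▸ hu)
  have hv : ap (g'⁻¹ * g) u = v' := by rw [ap_mul, hgu, ← huv, ← hgv, ap_inv_ap]
  rw [← hv, refl_mul_refl_ap, commutatorElement_def]
  have hk : g'⁻¹ * g ∈ eichGen Q :=
    mul_mem (inv_mem (eichPair_le e f hg')) (eichPair_le e f hg)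
  exact mul_mem ((eichGen_normal (Q := Q)).conj_mem _ hk _) (inv_mem hk)

/-- With a scalar `t ≠ 0, 1`, `U_e ≤ Ω`. -/
theorem eich_mem_omega (h : HPair Q e f) {t : F} (ht : t ≠ 0) (ht1 : t ≠ 1) {w : ι → F}
    (hw : w ∈ perp Q e f) : eich Q e w ∈ Omega F ⇑Q := by
  have hfe : polar ⇑Q f e = 1 := by rw [pl_comm]; exact h.pf
  obtain ⟨he', hf'⟩ := mem_perp.1 hw
  set g : IsoGrp Q := Orth.refl Q (e - f) * Orth.refl Q (e - t • f) with hg
  have hge : ap g e = t • e := by
    rw [hg, ap_mul]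
    have e1 : ap (Orth.refl Q (e - t • f)) e = t • f := by
      rw [refl_ap, Q_sub, Q_smul, pl_smul_right, h.qe, h.qf, h.pf, pl_sub_left, pl_smul_left, pl_self,
        h.qe, hfe]
      rw [show (0 + t * t * 0 - t * 1)⁻¹ * (2 * 0 - t * 1) = 1 by
        rw [show (2 * 0 - t * 1) = 0 + t * t * 0 - t * 1 by ring]
        exact inv_mul_cancel₀ (by simpa using ht), one_smul, sub_sub_cancel]
    rw [e1, map_smul, refl_ap, Q_sub, h.qe, h.qf, h.pf, pl_sub_left, h.pf, pl_self, h.qf]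
    norm_num
  have hgw : ∀ c : F, ap g (c • w) = c • w := fun c => by
    rw [map_smul, hg, ap_mul,
      refl_ap_of_orth Q (v := e - t • f) (by rw [pl_sub_left, pl_smul_left, he', hf']; ring),
      refl_ap_of_orth Q (v := e - f) (by rw [pl_sub_left, he', hf']; ring)]
  have key : ⁅g, eich Q e ((t - 1)⁻¹ • w)⁆ = eich Q e w := by
    rw [commutatorElement_def, conj_eich, hge, hgw, eich_smul_left,
      eich_inv, eich_add h.qe (by rw [pl_smul_right, pl_smul_right, he', mul_zero, mul_zero])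
        (by rw [pl_neg_right, pl_smul_right, he', mul_zero, neg_zero])]
    congr 1
    rw [← sub_eq_add_neg, smul_smul, ← sub_smul,
      show t * (t - 1)⁻¹ - (t - 1)⁻¹ = (t - 1) * (t - 1)⁻¹ by ring,
      mul_inv_cancel₀ (sub_ne_zero.2 ht1), one_smul]
  rw [← key]
  exact Subgroup.commutator_mem_commutator (Subgroup.mem_top _) (Subgroup.mem_top _)

end Cfsg.Agent.ChevOrth
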