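import Cfsg.Agent.EqLemmas

/-!
# Rank one elements from a pair of square-zero matrices

If `R R = R' R' = 0`, `R R' R = R`, `R' R R' = R'`, then `n(t) = (1+tR)(1-t⁻¹R')(1+tR)` and
`h(t) = n(t) n(-1)` satisfy `h(t) h(u) = h(tu)`.
-/

set_option autoImplicit false

namespace Cfsg.Agent.ChevOrth

variable {ι : Type*} [Fintype ι] [DecidableEq ι] {F : Type*} [Field F]

/-- n(t). -/
def nP (R S : Matrix ι ι F) (t : F) : Matrix ι ι F :=
  (1 + t • R) * (1 + (-t⁻¹) • S) * (1 + t • R)

/-- h(t). -/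
def hP (R S : Matrix ι ι F) (t : F) : Matrix ι ι F := nP R S t * nP R S (-1)

variable {R S : Matrix ι ι F} (hR : R * R = 0) (hS : S * S = 0) (hRS : R * S * R = R) (hSR : S * R * S = S)
include hR hS hRS hSR

theorem nP_eq {t : F} (ht : t ≠ 0) : nP R S t = 1 + t • R + (-t⁻¹) • S - R * S - S * R := by
  have h2 : R * (S * R) = R := by rw [← mul_assoc]; exact hRS
  simp only [nP, mul_add, add_mul, mul_one, one_mul, Matrix.smul_mul, Matrix.mul_smul, smul_smul, mul_assoc,
    hR, h2, smul_zero, smul_add, add_zero]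
  match_scalars <;> field_simp <;> ring

theorem hP_eq {t : F} (ht : t ≠ 0) : hP R S t = 1 + (t - 1) • (R * S) + (t⁻¹ - 1) • (S * R) := by
  have h1 : R * (S * R) = R := by rw [← mul_assoc]; exact hRS
  have h2 : S * (R * S) = S := by rw [← mul_assoc]; exact hSR
  have h3 : R * (R * S) = 0 := by rw [← mul_assoc, hR, zero_mul]
  have h4 : S * (S * R) = 0 := by rw [← mul_assoc, hS, zero_mul]
  rw [hP, nP_eq hR hS hRS hSR ht, nP_eq hR hS hRS hSR (neg_ne_zero.2 one_ne_zero)]
  simp only [mul_add, add_mul, mul_sub, sub_mul, mul_one, one_mul, Matrix.smul_mul, Matrix.mul_smul, smul_smul,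
    mul_assoc, hR, hS, h1, h2, h3, h4, smul_zero, smul_add, smul_sub, mul_zero, zero_mul]
  match_scalars <;> field_simp <;> ring

theorem hP_mul {t u : F} (ht : t ≠ 0) (hu : u ≠ 0) : hP R S t * hP R S u = hP R S (t * u) := by
  have h3 : R * (S * (S * R)) = 0 := by rw [← mul_assoc S, hS, zero_mul, mul_zero]
  have h4 : S * (R * (R * S)) = 0 := by rw [← mul_assoc R, hR, zero_mul, mul_zero]
  have h5 : R * (S * (R * S)) = R * S := by rw [← mul_assoc, ← mul_assoc, hRS]
  have h6 : S * (R * (S * R)) = S * R := by rw [← mul_assoc, ← mul_assoc, hSR]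
  rw [hP_eq hR hS hRS hSR ht, hP_eq hR hS hRS hSR hu, hP_eq hR hS hRS hSR (mul_ne_zero ht hu)]
  simp only [mul_add, add_mul, mul_one, one_mul, Matrix.smul_mul, Matrix.mul_smul, smul_smul,
    mul_assoc, h3, h4, h5, h6, smul_zero, smul_add]
  match_scalars <;> field_simp <;> ring

end Cfsg.Agent.ChevOrth
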