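import Cfsg.Agent.Lib.ChevOrth.D4Data
import Cfsg.Agent.Lib.ChevOrth.EichlerAny
import Cfsg.Agent.Lib.ChevOrth.RankOne
import Cfsg.Agent.Lib.Orth.Models
import Cfsg.Agent.Lib.Chev.DataD4
import Cfsg.Prelude.Def_Steinberg

/-!
# The Steinberg group of type D₄ maps onto Ω⁺₈

`exists_stOmega` : a surjection `SteinbergGroup → Omega F (quadFormPlus 4 F)`, for every field;
`omega_not_comm` : the target is not commutative.
-/

set_option autoImplicit false

namespace Cfsg.Agent.ChevOrth.D4

open Cfsg Cfsg.Lie Matrix Cfsg.Agent.Orth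
open QuadraticMap (polar)

variable (F : Type*) [Field F]

local notation "Q₈" => quadPlus 4 F

/-- A basis vector. -/
def E (p : I8) : I8 → F := Pi.single p 1

/-- The matrix of a root over `F`. -/
def matF (r : ℕ) : Matrix I8 I8 F := (MZ r).map (Int.cast : ℤ → F)

/-- The root element. -/
noncomputable def gen (r : ℕ) (t : F) : IsoGrp Q₈ :=
  eich Q₈ (E F (uI r)) (((sg r : F) * t) • E F (wI r))

variable {F}

theorem opp_opp (p : I8) : opp (opp p) = p := by rcases p with i | i <;> rfl

theorem polar_E (p : I8) (y : I8 → F) : polar ⇑Q₈ (E F p) y = y (opp p) := by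
  rw [coe_quadPlus, polar_quadPlus]
  rcases p with i | i <;> rw [Finset.sum_eq_single i] <;> simp +contextual [E, opp, Pi.single_apply]

theorem Q_E (p : I8) : Q₈ (E F p) = 0 := by
  show quadFormPlus 4 F (E F p) = 0
  rcases p with i | i <;> simp [quadFormPlus, E, Pi.single_apply]

theorem polar_EE (p q : I8) : polar ⇑Q₈ (E F p) (E F q) = if opp p = q then 1 else 0 := by
  rw [polar_E]; simp [E, Pi.single_apply]

theorem hpair (p : I8) : HPair Q₈ (E F p) (E F (opp p)) :=
  ⟨Q_E p, Q_E _, by rw [polar_EE]; simp⟩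

theorem E_mem_perp {p q : I8} (h₁ : q ≠ p) (h₂ : q ≠ opp p) :
    E F q ∈ perp Q₈ (E F p) (E F (opp p)) := by
  rw [mem_perp, polar_EE, polar_EE, opp_opp]
  simp [h₁.symm, h₂.symm]

theorem good : Orth.Good Q₈ := ⟨quadPlus_nondeg 4, .inr (by simp)⟩

theorem smul_E_mem_omega (p q : I8) (h₁ : q ≠ p) (h₂ : q ≠ opp p) (c : F) :
    eich Q₈ (E F p) (c • E F q) ∈ Omega F ⇑Q₈ := by
  by_cases hs : ∃ t : F, t ≠ 0 ∧ t ≠ 1
  · obtain ⟨t, ht, ht1⟩ := hs
    exact eich_mem_omega (hpair p) ht ht1 (Submodule.smul_mem _ _ (E_mem_perp h₁ h₂))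
  · classical
    push Not at hs
    letI : Fintype F := ⟨{0, 1}, fun x => by
      simp only [Finset.mem_insert, Finset.mem_singleton]; exact (em (x = 0)).imp id (hs x)⟩
    exact eichGen_le_omega (good (F := F)).nd (by simp) (.inr (by simp)) (eich_mem_eichGen _ _)

theorem rankOne {r : ℕ} (hr : r < 24) :
    MZ r * MZ r = 0 ∧ MZ r * MZ (chevD4.neg r) * MZ r = MZ r ∧
      (uI r ≠ wI r ∧ uI r ≠ opp (wI r)) ∧ (sg r = 1 ∨ sg r = -1) := by
  have h := List.all_eq_true.1 rankOneOK_all r (List.mem_range.2 hr)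
  simpa [rankOneOK, Bool.and_eq_true, and_assoc] using h

theorem gen_eq_one {r : ℕ} (hr : ¬ r < 24) (t : F) : gen F r t = 1 := by
  have : sg r = 0 := by
    rw [sg, List.getD_eq_default]
    simp only [rootTab, List.length_cons, List.length_nil]
    omega
  simp [gen, this, eich_zero]

theorem gen_mem (r : ℕ) (t : F) : gen F r t ∈ Omega F ⇑Q₈ := by
  by_cases hr : r < 24
  · obtain ⟨-, -, ⟨h1, h2⟩, -⟩ := rankOne hr
    refine smul_E_mem_omega _ _ (Ne.symm h1) ?_ _
    intro e; exact h2 (by rw [e, opp_opp])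
  · rw [gen_eq_one hr]; exact one_mem _

theorem gen_add (r : ℕ) (t u : F) : gen F r (t + u) = gen F r t * gen F r u := by
  by_cases hr : r < 24
  · obtain ⟨-, -, ⟨h1, h2⟩, -⟩ := rankOne hr
    have hp : polar ⇑Q₈ (E F (uI r)) (E F (wI r)) = 0 := by
      rw [polar_EE, if_neg]; intro e; exact h2 (by rw [← e, opp_opp])
    rw [gen, gen, gen, eich_add (Q_E _) (by rw [pl_smul_right, hp, mul_zero])
      (by rw [pl_smul_right, hp, mul_zero]), ← add_smul, mul_add]
  · simp [gen_eq_one hr]

theorem gen_mat {r : ℕ} (hr : r < 24) (t : F) :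
    ((gen F r t : GL I8 F) : Matrix I8 I8 F) = 1 + t • matF F r := by
  obtain ⟨-, -, ⟨h1, h2⟩, -⟩ := rankOne hr
  have hp : polar ⇑Q₈ (E F (uI r)) (E F (wI r)) = 0 := by
    rw [polar_EE, if_neg]; intro e; exact h2 (by rw [← e, opp_opp])
  rw [gen, eich_mat (Q_E _) (by rw [pl_smul_right, hp, mul_zero])]
  have e0 : ∀ (p : I8) (b : I8), polarVec ⇑Q₈ (E F p) b = if b = opp p then 1 else 0 := fun p b => by
    show polar ⇑Q₈ (E F p) (E F b) = _
    rw [polar_EE]; simp only [eq_comm]
  have e0' : ∀ (c : F) (p b : I8), polarVec ⇑Q₈ (c • E F p) b = c * if b = opp p then 1 else 0 := fun c p b => by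
    show polar ⇑Q₈ (c • E F p) (E F b) = _
    rw [pl_smul_left, polar_EE]; simp only [eq_comm]
  ext a b
  simp only [eichMat, Matrix.sub_apply, Matrix.add_apply, Matrix.smul_apply, vecMulVec_apply, e0, e0',
    Q_smul, Q_E, mul_zero, zero_mul, smul_eq_mul, sub_zero, matF, MZ, Matrix.map_apply, Matrix.of_apply,
    Int.cast_sub]
  simp only [E, Pi.smul_apply, Pi.single_apply, smul_eq_mul, ite_and]
  split_ifs <;> simp <;> ring

theorem castM_mul (A B : Matrix I8 I8 ℤ) :
    (A * B).map (Int.cast : ℤ → F) = A.map (Int.cast : ℤ → F) * B.map (Int.cast : ℤ → F) := by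
  simpa using Matrix.map_mul (L := A) (M := B) (f := Int.castRingHom F)

theorem gen_comm {r s : ℕ} (hr : r < 24) (hs : s < 24) (h₁ : s ≠ r) (h₂ : s ≠ chevD4.neg r) (t u : F) :
    gen F s u * gen F r t =
      gen F r t * gen F s u * ((chevD4.commWord F r s t u).map fun p => gen F p.1 p.2).prod := by
  have h := List.all_eq_true.1 (List.all_eq_true.1 pairOK_all r (List.mem_range.2 hr)) s (List.mem_range.2 hs)
  simp only [h₁, h₂, decide_false, Bool.false_or] at h
  unfold pairOK at h
  apply Subtype.ext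
  apply Units.ext
  unfold ChevalleyDatum.commWord
  split at h
  · rename_i he
    have hc := congrArg (fun M : Matrix I8 I8 ℤ => M.map (Int.cast : ℤ → F)) (of_decide_eq_true h)
    simp only [castM_mul] at hc
    simp only [he, List.map_nil, List.prod_nil, mul_one, Subgroup.coe_mul, Units.val_mul, gen_mat hr,
      gen_mat hs, mul_add, add_mul, one_mul, Matrix.smul_mul, Matrix.mul_smul, smul_smul]
    rw [show (matF F s * matF F r) = matF F r * matF F s from hc]
    module
  · rename_i k c he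
    simp only [Bool.and_eq_true, decide_eq_true_eq] at h
    obtain ⟨⟨⟨hk, h1⟩, h2⟩, h3⟩ := h
    have hc : matF F s * matF F r = matF F r * matF F s - (c : F) • matF F k := by
      have := congrArg (fun M : Matrix I8 I8 ℤ => M.map (Int.cast : ℤ → F)) h1
      simp only [castM_mul, Matrix.map_sub _ Int.cast_sub] at this
      refine this.trans ?_
      congr 1
      ext a b
      simp only [Matrix.map_apply, Matrix.smul_apply, smul_eq_mul, matF, Int.cast_mul]
    have hrk : matF F r * matF F k = 0 := by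
      have := congrArg (fun M : Matrix I8 I8 ℤ => M.map (Int.cast : ℤ → F)) h2
      simpa [castM_mul, matF] using this
    have hsk : matF F s * matF F k = 0 := by
      have := congrArg (fun M : Matrix I8 I8 ℤ => M.map (Int.cast : ℤ → F)) h3
      simpa [castM_mul, matF] using this
    simp only [he, List.map_cons, List.map_nil, List.prod_cons, List.prod_nil, mul_one, Subgroup.coe_mul,
      Units.val_mul, gen_mat hr, gen_mat hs, gen_mat hk, pow_one, mul_add, add_mul, one_mul, Matrix.smul_mul,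
      Matrix.mul_smul, smul_smul, Matrix.mul_assoc, hrk, hsk, hc, Matrix.mul_zero, smul_zero, smul_sub]
    module
  · exact absurd h (by simp)

/-- The assignment of the generators. -/
noncomputable def genOmega (p : Fin chevD4.nroots × F) : ↥(Omega F ⇑Q₈) := ⟨gen F p.1.val p.2, gen_mem _ _⟩

theorem lift_stX (r : ℕ) (t : F) :
    (FreeGroup.lift (genOmega (F := F)) (chevD4.stX r t) : IsoGrp Q₈) = gen F r t := by
  unfold ChevalleyDatum.stX
  split
  · rw [FreeGroup.lift_apply_of]; rfl
  · rename_i h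
    rw [map_one, gen_eq_one (fun h' => h (lt_of_lt_of_eq h' rfl))]
    rfl

theorem lift_stWord (w : List (ℕ × F)) :
    (FreeGroup.lift (genOmega (F := F)) (chevD4.stWord w) : IsoGrp Q₈) =
      (w.map fun p => gen F p.1 p.2).prod := by
  rw [ChevalleyDatum.stWord, map_list_prod, List.map_map, ← Subgroup.coe_subtype, map_list_prod, List.map_map]
  congr 1
  exact List.map_congr_left fun p _ => lift_stX p.1 p.2

theorem lift_rel : ∀ g ∈ chevD4.steinbergRels F, FreeGroup.lift (genOmega (F := F)) g = 1 := by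
  rintro g ((⟨r, t, u, hr, rfl⟩ | ⟨r, s, t, u, hr, hs, h₁, h₂, rfl⟩) | ⟨r, t, u, hr, ht, hu, rfl⟩)
  · apply Subtype.ext
    simp [lift_stX, gen_add]
  · apply Subtype.ext
    simp only [map_mul, map_inv, Subgroup.coe_mul, Subgroup.coe_inv, lift_stX, lift_stWord, OneMemClass.coe_one]
    rw [mul_assoc ((gen F s u)⁻¹ * (gen F r t)⁻¹),
      gen_comm (lt_of_lt_of_eq hr rfl) (lt_of_lt_of_eq hs rfl) h₁ h₂ t u]
    group
  · have hr' : r < 24 := lt_of_lt_of_eq hr rfl
    have hn : chevD4.neg r < 24 := lt_of_lt_of_eq (Chev.DataD4.good.neg_lt r hr) rfl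
    obtain ⟨z1, z2, -, -⟩ := rankOne hr'
    obtain ⟨z3, z4, -, -⟩ := rankOne hn
    rw [Chev.DataD4.good.neg_neg r hr] at z4
    have c1 := congrArg (fun M : Matrix I8 I8 ℤ => M.map (Int.cast : ℤ → F)) z1
    have c2 := congrArg (fun M : Matrix I8 I8 ℤ => M.map (Int.cast : ℤ → F)) z2
    have c3 := congrArg (fun M : Matrix I8 I8 ℤ => M.map (Int.cast : ℤ → F)) z3
    have c4 := congrArg (fun M : Matrix I8 I8 ℤ => M.map (Int.cast : ℤ → F)) z4
    simp only [castM_mul, Matrix.map_zero _ Int.cast_zero] at c1 c2 c3 c4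
    rw [map_mul, map_mul, map_inv, mul_inv_eq_one]
    apply Subtype.ext
    apply Subtype.ext
    apply Units.ext
    have hh : ∀ w : F, (((FreeGroup.lift (genOmega (F := F)) (chevD4.stH r w) : IsoGrp Q₈) : GL I8 F) :
        Matrix I8 I8 F) = hP (matF F r) (matF F (chevD4.neg r)) w := fun w => by
      rw [ChevalleyDatum.stH, lift_stWord]
      simp [ChevalleyDatum.hWord, ChevalleyDatum.nWord, hP, nP, gen_mat hr', gen_mat hn, Matrix.mul_assoc]
    rw [Subgroup.coe_mul, Subgroup.coe_mul, Units.val_mul, hh, hh, hh]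
    exact hP_mul c1 c3 c2 c4 ht hu

/-- The homomorphism onto Ω. -/
noncomputable def stOmega : chevD4.SteinbergGroup F →* ↥(Omega F ⇑Q₈) := PresentedGroup.toGroup lift_rel

theorem stOmega_gen (r : ℕ) (t : F) : (stOmega (chevD4.stGen F r t) : IsoGrp Q₈) = gen F r t :=
  lift_stX r t

theorem stOmega_surjective : Function.Surjective (stOmega (F := F)) := by
  classical
  set R : Subgroup (IsoGrp Q₈) := ((Omega F ⇑Q₈).subtype.comp (stOmega (F := F))).range with hR
  have hgen : ∀ r t, gen F r t ∈ R := fun r t => ⟨_, stOmega_gen r t⟩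
  have hbasis : ∀ (pos : Bool) (k : I8), k ≠ bas 0 pos → k ≠ opp (bas 0 pos) → ∀ c : F,
      eich Q₈ (E F (bas 0 pos)) (c • E F k) ∈ R := by
    intro pos k hk1 hk2 c
    have hk : ∃ j < 3, ∃ p' : Bool, k = bas (j + 1) p' := by
      revert hk1 hk2
      revert pos k
      decide
    obtain ⟨j, hj, p', rfl⟩ := hk
    have h := cover
    simp only [List.all_eq_true, List.any_eq_true, Bool.and_eq_true, decide_eq_true_eq, List.mem_range] at h
    obtain ⟨r, hr, h1, h2⟩ := h j hj pos (by cases pos <;> simp) p' (by cases p' <;> simp)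
    have hs := (rankOne hr).2.2.2
    have e := hgen r ((sg r : F) * c)
    rw [gen, h1, h2, ← mul_assoc, show (sg r : F) * sg r = 1 by rcases hs with h | h <;> rw [h] <;> simp,
      one_mul] at e
    exact e
  have hside : ∀ (pos : Bool), ∀ w ∈ perp Q₈ (E F (bas 0 pos)) (E F (opp (bas 0 pos))),
      eich Q₈ (E F (bas 0 pos)) w ∈ R := by
    intro pos w hw
    obtain ⟨h1, h2⟩ := mem_perp.1 hw
    rw [polar_E] at h1 h2
    rw [opp_opp] at h2
    have hterm : ∀ k : I8, polar ⇑Q₈ (E F (bas 0 pos)) (w k • E F k) = 0 ∧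
        eich Q₈ (E F (bas 0 pos)) (w k • E F k) ∈ R := by
      intro k
      by_cases hk1 : k = bas 0 pos
      · subst hk1; rw [h2]; simp [pl_zero_right, eich_zero]
      by_cases hk2 : k = opp (bas 0 pos)
      · subst hk2; rw [h1]; simp [pl_zero_right, eich_zero]
      exact ⟨by rw [pl_smul_right, polar_EE, if_neg (Ne.symm hk2), mul_zero], hbasis pos k hk1 hk2 _⟩
    have key : ∀ S : Finset I8, polar ⇑Q₈ (E F (bas 0 pos)) (∑ k ∈ S, w k • E F k) = 0 ∧
        eich Q₈ (E F (bas 0 pos)) (∑ k ∈ S, w k • E F k) ∈ R := by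
      intro S
      induction S using Finset.induction with
      | empty => simp [pl_zero_right, eich_zero]
      | insert a S ha ih =>
        rw [Finset.sum_insert ha]
        refine ⟨by rw [pl_add_right, (hterm a).1, ih.1, add_zero], ?_⟩
        rw [← eich_add (Q_E _) (hterm a).1 ih.1]
        exact mul_mem (hterm a).2 ih.2
    have hw' : ∑ k, w k • E F k = w := by
      ext b; simp [E, Finset.sum_apply, Pi.single_apply]
    exact hw' ▸ (key Finset.univ).2
  have hle : Omega F ⇑Q₈ ≤ R := by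
    refine (omega_le_eichPair good (hpair (bas 0 true)) (hpair (bas 1 true))
      (E_mem_perp (by decide) (by decide)) (E_mem_perp (by decide) (by decide)) (by simp)).trans ?_
    rw [eichPair, Subgroup.closure_le]
    rintro _ ⟨w, hw, rfl | rfl⟩
    · exact hside true w hw
    · refine hside false w ?_
      rw [show bas 0 false = opp (bas 0 true) from rfl, opp_opp, perp_swap]
      exact hw
  intro g
  obtain ⟨x, hx⟩ := hle g.2
  exact ⟨x, Subtype.ext hx⟩

theorem omega_not_comm : ∃ a b : ↥(Omega F ⇑Q₈), a * b ≠ b * a := by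
  refine ⟨⟨gen F 18 1, gen_mem _ _⟩, ⟨gen F (chevD4.neg 18) 1, gen_mem _ _⟩, fun h => ?_⟩
  obtain ⟨z1, z2, -, hs⟩ := rankOne (show 18 < 24 by norm_num)
  have hn : chevD4.neg 18 < 24 := by decide +kernel
  have h' := congrArg (fun g : ↥(Omega F ⇑Q₈) => (((g : IsoGrp Q₈) : GL I8 F) : Matrix I8 I8 F)) h
  simp only [Subgroup.coe_mul, Units.val_mul, gen_mat (show 18 < 24 by norm_num), gen_mat hn, one_smul, mul_add,
    add_mul, mul_one, one_mul] at h'
  have c1 := congrArg (fun M : Matrix I8 I8 ℤ => M.map (Int.cast : ℤ → F)) z1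
  have c2 := congrArg (fun M : Matrix I8 I8 ℤ => M.map (Int.cast : ℤ → F)) z2
  simp only [castM_mul, Matrix.map_zero _ Int.cast_zero] at c1 c2
  change matF F 18 * matF F 18 = 0 at c1
  change matF F 18 * matF F (chevD4.neg 18) * matF F 18 = matF F 18 at c2
  have hc : matF F 18 * matF F (chevD4.neg 18) = matF F (chevD4.neg 18) * matF F 18 := by
    linear_combination (norm := module) h'
  rw [hc, mul_assoc, c1, mul_zero] at c2
  have e1 : MZ 18 (Sum.inl 0) (Sum.inl 1) = -1 ∨ MZ 18 (Sum.inl 0) (Sum.inl 1) = 1 := by decide +kernel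
  have e2 := congrFun (congrFun c2 (Sum.inl 0)) (Sum.inl 1)
  rcases e1 with e1 | e1 <;> simp [matF, e1] at e2

end Cfsg.Agent.ChevOrth.D4
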