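import Cfsg.Agent.EqLemmas

/-!
# An isomorphism from a surjection out of a central extension of a simple group

`iso_of_central_quotient` : if `θ : E → G` has kernel `Z(E)` and `G` is simple, then a surjection of `E`
onto a non-commutative `K` induces `G ≅ K / Z(K)`.
-/

set_option autoImplicit false

namespace Cfsg.Agent.ChevOrth

theorem iso_of_central_quotient {E G K : Type*} [Group E] [Group G] [Group K] (θ : E →* G)
    (hθ : Function.Surjective θ) (hker : θ.ker = Subgroup.center E) (hG : IsSimpleGroup G)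
    (φ : E →* K) (hφ : Function.Surjective φ) (hK : ∃ a b : K, a * b ≠ b * a) :
    Nonempty (G ≃* K ⧸ Subgroup.center K) := by
  let ψ : E →* K ⧸ Subgroup.center K := (QuotientGroup.mk' _).comp φ
  have hψ : Function.Surjective ψ := (QuotientGroup.mk'_surjective _).comp hφ
  have hle : θ.ker ≤ ψ.ker := by
    rw [hker]
    intro z hz
    rw [MonoidHom.mem_ker, MonoidHom.comp_apply, QuotientGroup.mk'_apply, QuotientGroup.eq_one_iff,
      Subgroup.mem_center_iff]
    intro k
    obtain ⟨x, rfl⟩ := hφ k
    rw [← map_mul, ← map_mul, Subgroup.mem_center_iff.1 hz x]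
  let f : G →* K ⧸ Subgroup.center K :=
    (QuotientGroup.lift θ.ker ψ hle).comp (QuotientGroup.quotientKerEquivOfSurjective θ hθ).symm.toMonoidHom
  have hf : Function.Surjective f := fun y => by
    obtain ⟨x, rfl⟩ := hψ y
    exact ⟨QuotientGroup.quotientKerEquivOfSurjective θ hθ (QuotientGroup.mk x), by simp [f]⟩
  rcases hG.eq_bot_or_eq_top_of_normal f.ker inferInstance with h | h
  · exact ⟨MulEquiv.ofBijective f ⟨(MonoidHom.ker_eq_bot_iff f).1 h, hf⟩⟩
  · exfalso
    obtain ⟨a, b, hab⟩ := hK
    have h1 : ∀ k : K, k ∈ Subgroup.center K := fun k => by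
      obtain ⟨g, hg⟩ := hf (QuotientGroup.mk k)
      have hgk : f g = 1 := (MonoidHom.mem_ker).1 (h ▸ Subgroup.mem_top g)
      rw [hgk] at hg
      exact (QuotientGroup.eq_one_iff k).1 hg.symm
    exact hab ((Subgroup.mem_center_iff.1 (h1 b) a))

end Cfsg.Agent.ChevOrth
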