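import Cfsg.Agent.Lib.ChevOrth.B2Data
import Cfsg.Agent.Lib.ChevOrth.EichlerAny
import Cfsg.Agent.Lib.Orth.Models
import Cfsg.Agent.Lib.Chev.DataB2
import Cfsg.Prelude.Def_Steinberg

/-!
# The Steinberg group of type B₂ maps onto Ω₅

`stOmega`, `stOmega_surjective`, `omega_not_comm` for every field with more than two elements.
In characteristic two the polar form is degenerate, so generation is shown directly: `O(Q) = R T` with
`R` the image of the Steinberg group and `T` the diagonal isometries, whence `[O(Q), O(Q)] ≤ R`.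
-/

set_option autoImplicit false
set_option linter.unusedSectionVars false

namespace Cfsg.Agent.ChevOrth.B2

open Cfsg Cfsg.Lie Matrix Cfsg.Agent.Orth
open QuadraticMap (polar)

variable (F : Type*) [Field F]

local notation "Q₅" => quadOdd 2 F

/-- A basis vector. -/
def E (p : I5) : I5 → F := Pi.single p 1

/-- The root element. -/
noncomputable def gen (r : ℕ) (t : F) : IsoGrp Q₅ :=
  eich Q₅ (E F (uI r)) (((sg r : F) * t) • E F (wI r))

variable {F}

theorem opp_opp (p : I5) : opp (opp p) = p := by rcases p with u | i | i <;> rfl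

theorem polar_E (p : I5) (y : I5 → F) :
    polar ⇑Q₅ (E F p) y = (if p = z0 then 2 else 1) * y (opp p) := by
  rw [coe_quadOdd, polar_quadOdd, Fin.sum_univ_two]
  rcases p with u | i | i
  · simp [E, opp]
  · fin_cases i <;> simp [E, opp]
  · fin_cases i <;> simp [E, opp]

theorem Q_E {p : I5} (h : p ≠ z0) : Q₅ (E F p) = 0 := by
  show quadFormOdd 2 F (E F p) = 0
  rcases p with u | i | i
  · exact absurd rfl h
  · fin_cases i <;> simp [quadFormOdd, E, Fin.sum_univ_two]
  · fin_cases i <;> simp [quadFormOdd, E, Fin.sum_univ_two]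

theorem Q_z0 : Q₅ (E F z0) = 1 := by
  show quadFormOdd 2 F (E F z0) = 1
  simp [quadFormOdd, E]

theorem hpair {p : I5} (h : p ≠ z0) : HPair Q₅ (E F p) (E F (opp p)) := by
  refine ⟨Q_E h, Q_E ?_, ?_⟩
  · intro e; exact h (by rw [← opp_opp p, e]; rfl)
  · rw [polar_E, if_neg h]; simp [E]

theorem polar_EE {p q : I5} (h : opp p ≠ q) : polar ⇑Q₅ (E F p) (E F q) = 0 := by
  rw [polar_E]; simp [E, h]

theorem E_mem_perp {p q : I5} (h₁ : q ≠ p) (h₂ : q ≠ opp p) :
    E F q ∈ perp Q₅ (E F p) (E F (opp p)) := by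
  rw [mem_perp, polar_EE h₂.symm, polar_EE (p := opp p) (by rw [opp_opp]; exact h₁.symm)]
  exact ⟨rfl, rfl⟩

theorem root_spec {r : ℕ} (hr : r < 8) :
    (uI r ≠ z0 ∧ uI r ≠ wI r ∧ uI r ≠ opp (wI r)) ∧ (sg r = 1 ∨ sg r = -1) := by
  have h := List.all_eq_true.1 rootOK_all r (List.mem_range.2 hr)
  simpa [rootOK, Bool.and_eq_true] using h

theorem opp_ne {r : ℕ} (hr : r < 8) : opp (uI r) ≠ wI r := fun e =>
  (root_spec hr).1.2.2 (by rw [← e, opp_opp])

theorem gen_eq_one {r : ℕ} (hr : ¬ r < 8) (t : F) : gen F r t = 1 := by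
  have : sg r = 0 := by
    rw [sg, List.getD_eq_default]
    simp only [rootTab, List.length_cons, List.length_nil]
    omega
  simp [gen, this, eich_zero]

theorem gen_mem (hF : ∃ a : F, a ≠ 0 ∧ a ≠ 1) (r : ℕ) (t : F) : gen F r t ∈ Omega F ⇑Q₅ := by
  by_cases hr : r < 8
  · obtain ⟨a, ha, ha1⟩ := hF
    obtain ⟨⟨h0, h1, -⟩, -⟩ := root_spec hr
    exact eich_mem_omega (hpair h0) ha ha1
      (Submodule.smul_mem _ _ (E_mem_perp (Ne.symm h1) (opp_ne hr).symm))
  · rw [gen_eq_one hr]; exact one_mem _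

theorem gen_add (r : ℕ) (t u : F) : gen F r (t + u) = gen F r t * gen F r u := by
  by_cases hr : r < 8
  · obtain ⟨⟨h0, -, -⟩, -⟩ := root_spec hr
    have hp := polar_EE (F := F) (opp_ne hr)
    rw [gen, gen, gen, eich_add (Q_E h0) (by rw [pl_smul_right, hp, mul_zero])
      (by rw [pl_smul_right, hp, mul_zero]), ← add_smul, mul_add]
  · simp [gen_eq_one hr]

theorem evalS_oneT {κ : Type} [DecidableEq κ] [Zero κ] (w : κ → F) (hw : w 0 = 1) :
    evalS w (oneT κ) = (1 : Matrix I5 I5 F) := by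
  ext a b
  rcases a with u | i | i <;> rcases b with v | j | j <;> (try fin_cases i) <;> (try fin_cases j) <;>
    simp [evalS, oneT, hw, Matrix.single]

theorem gen_mat {κ : Type} [DecidableEq κ] [Zero κ] [Add κ] (w : κ → F) (hw0 : w 0 = 1)
    (hw : ∀ k l, w (k + l) = w k * w l) {r : ℕ} (hr : r < 8) (k : κ) (c : ℤ) {t : F}
    (ht : t = (c : F) * w k) :
    ((gen F r t : GL I5 F) : Matrix I5 I5 F) = evalS w (xT r k c) := by
  obtain ⟨⟨h0, -, -⟩, hs⟩ := root_spec hr
  have hp := polar_EE (F := F) (opp_ne hr)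
  rw [gen, eich_mat (Q_E h0) (by rw [pl_smul_right, hp, mul_zero]), xT, evalS_append, evalS_oneT w hw0]
  have e0 : ∀ (p : I5) (b : I5), polarVec ⇑Q₅ (E F p) b =
      (if p = z0 then 2 else 1) * if opp p = b then 1 else 0 := fun p b => by
    show polar ⇑Q₅ (E F p) (Pi.single b 1) = _
    rw [polar_E]; simp [Pi.single_apply]
  have e0' : ∀ (a : F) (p b : I5), polarVec ⇑Q₅ (a • E F p) b =
      a * ((if p = z0 then 2 else 1) * if opp p = b then 1 else 0) := fun a p b => by
    show polar ⇑Q₅ (a • E F p) (Pi.single b 1) = _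
    rw [pl_smul_left, polar_E]; simp [Pi.single_apply]
  have hE : ∀ p a : I5, E F p a = if p = a then 1 else 0 := fun p a => by
    simp [E, Pi.single_apply, eq_comm]
  have hsq : (sg r : F) * sg r = 1 := by rcases hs with h | h <;> rw [h] <;> simp
  have hoz : opp z0 = z0 := rfl
  ext a b
  simp only [eichMat, Matrix.sub_apply, Matrix.add_apply, Matrix.smul_apply, vecMulVec_apply, e0, e0',
    Q_smul, smul_eq_mul, Pi.smul_apply, hE, if_neg h0]
  by_cases hz : wI r = z0
  · simp only [hz, if_true, evalS, List.map_cons, List.map_nil, List.sum_cons, List.sum_nil, add_zero,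
      Matrix.add_apply, Matrix.single, Matrix.of_apply, Q_z0, hoz, hw, ht]
    push_cast
    simp only [ite_and]
    split_ifs <;> grind
  · simp only [if_neg hz, evalS, List.map_cons, List.map_nil, List.sum_cons, List.sum_nil, add_zero,
      Matrix.add_apply, Matrix.single, Matrix.of_apply, Q_E hz, ht]
    push_cast
    simp only [ite_and]
    split_ifs <;> grind

theorem w2_add (t u : F) (k l : ℕ × ℕ) :
    t ^ (k + l).1 * u ^ (k + l).2 = t ^ k.1 * u ^ k.2 * (t ^ l.1 * u ^ l.2) := by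
  simp only [Prod.fst_add, Prod.snd_add, pow_add]; ring

theorem gen_comm {r s : ℕ} (hr : r < 8) (hs : s < 8) (h₁ : s ≠ r) (h₂ : s ≠ chevB2.neg r) (t u : F) :
    gen F s u * gen F r t =
      gen F r t * gen F s u * ((chevB2.commWord F r s t u).map fun p => gen F p.1 p.2).prod := by
  have h := List.all_eq_true.1 (List.all_eq_true.1 commB2_all r (List.mem_range.2 hr)) s (List.mem_range.2 hs)
  simp only [h₁, h₂, decide_false, Bool.false_or, commB2, Bool.and_eq_true, List.all_eq_true,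
    decide_eq_true_eq] at h
  obtain ⟨hlt, hc⟩ := h
  set w : ℕ × ℕ → F := fun k => t ^ k.1 * u ^ k.2 with hw
  have hwa : ∀ k l, w (k + l) = w k * w l := w2_add t u
  have hw0 : w 0 = 1 := by simp [hw]
  have he := eval_eq_of_checkS w hc
  simp only [evalS_mul w hwa, evalS_prod w hwa _ (evalS_oneT w hw0), List.map_map] at he
  apply Subtype.ext
  apply Units.ext
  have hp : ∀ L : List (ℕ × F), ((((L.map fun p => gen F p.1 p.2).prod : IsoGrp Q₅) : GL I5 F) : Matrix I5 I5 F) =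
      (L.map fun p => ((gen F p.1 p.2 : GL I5 F) : Matrix I5 I5 F)).prod := by
    intro L
    induction L with
    | nil => rfl
    | cons a L ih => rw [List.map_cons, List.prod_cons, List.map_cons, List.prod_cons, Subgroup.coe_mul,
        Units.val_mul, ih]
  simp only [Subgroup.coe_mul, Units.val_mul, hp]
  rw [gen_mat w hw0 hwa hr (1, 0) 1 (t := t) (by simp [hw]),
    gen_mat w hw0 hwa hs (0, 1) 1 (t := u) (by simp [hw]), he]
  congr 2
  rw [ChevalleyDatum.commWord, List.map_map]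
  refine List.map_congr_left fun τ hτ => ?_
  show evalS w (wordT τ) = ((gen F τ.1 _ : GL I5 F) : Matrix I5 I5 F)
  rw [wordT, gen_mat w hw0 hwa (hlt τ hτ) (τ.2.2.1, τ.2.2.2) (τ.2.1 * (-1) ^ τ.2.2.1)]
  simp only [hw]
  push_cast
  rw [neg_pow]
  ring

theorem evalS_diagT {t : F} (r : ℕ) :
    evalS (fun k : ℤ => t ^ k) (diagT r) = Matrix.diagonal fun p => t ^ hexp r p := by
  ext a b
  rcases a with u | i | i <;> rcases b with v | j | j <;> (try fin_cases i) <;> (try fin_cases j) <;>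
    simp [evalS, diagT, Matrix.single, Matrix.diagonal]

variable (hF : ∃ a : F, a ≠ 0 ∧ a ≠ 1)

/-- The assignment of the generators. -/
noncomputable def genOmega (p : Fin chevB2.nroots × F) : ↥(Omega F ⇑Q₅) :=
  ⟨gen F p.1.val p.2, gen_mem hF _ _⟩

theorem lift_stX (r : ℕ) (t : F) :
    (FreeGroup.lift (genOmega hF) (chevB2.stX r t) : IsoGrp Q₅) = gen F r t := by
  unfold ChevalleyDatum.stX
  split
  · rw [FreeGroup.lift_apply_of]; rfl
  · rename_i h
    rw [map_one, gen_eq_one (fun h' => h (lt_of_lt_of_eq h' rfl))]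
    rfl

theorem lift_stWord (w : List (ℕ × F)) :
    (FreeGroup.lift (genOmega hF) (chevB2.stWord w) : IsoGrp Q₅) =
      (w.map fun p => gen F p.1 p.2).prod := by
  rw [ChevalleyDatum.stWord, map_list_prod, List.map_map, ← Subgroup.coe_subtype, map_list_prod, List.map_map]
  congr 1
  exact List.map_congr_left fun p _ => lift_stX hF p.1 p.2

theorem lift_rel : ∀ g ∈ chevB2.steinbergRels F, FreeGroup.lift (genOmega hF) g = 1 := by
  rintro g ((⟨r, t, u, hr, rfl⟩ | ⟨r, s, t, u, hr, hs, h₁, h₂, rfl⟩) | ⟨r, t, u, hr, ht, hu, rfl⟩)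
  · apply Subtype.ext
    simp [lift_stX, gen_add]
  · apply Subtype.ext
    simp only [map_mul, map_inv, Subgroup.coe_mul, Subgroup.coe_inv, lift_stX, lift_stWord, OneMemClass.coe_one]
    rw [mul_assoc ((gen F s u)⁻¹ * (gen F r t)⁻¹),
      gen_comm (lt_of_lt_of_eq hr rfl) (lt_of_lt_of_eq hs rfl) h₁ h₂ t u]
    group
  · have hr' : r < 8 := lt_of_lt_of_eq hr rfl
    have hn : chevB2.neg r < 8 := lt_of_lt_of_eq (Chev.DataB2.good.neg_lt r hr) rfl
    have hc : hB2 r = true := List.all_eq_true.1 hB2_all r (List.mem_range.2 hr')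
    rw [map_mul, map_mul, map_inv, mul_inv_eq_one]
    apply Subtype.ext
    apply Subtype.ext
    apply Units.ext
    have hh : ∀ v : F, v ≠ 0 → (((FreeGroup.lift (genOmega hF) (chevB2.stH r v) : IsoGrp Q₅) : GL I5 F) :
        Matrix I5 I5 F) = Matrix.diagonal fun p => v ^ hexp r p := fun v hv => by
      have hwa : ∀ k l : ℤ, v ^ (k + l) = v ^ k * v ^ l := fun k l => zpow_add₀ hv k l
      have he := eval_eq_of_checkS (fun k : ℤ => v ^ k) hc
      rw [evalS_prod _ hwa _ (evalS_oneT _ (zpow_zero v)), evalS_diagT] at he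
      rw [← he, ChevalleyDatum.stH, lift_stWord]
      simp only [ChevalleyDatum.hWord, ChevalleyDatum.nWord, List.cons_append, List.nil_append, List.map_cons,
        List.map_nil, List.prod_cons, List.prod_nil, mul_one, Subgroup.coe_mul, Units.val_mul]
      rw [gen_mat (fun k : ℤ => v ^ k) (zpow_zero v) hwa hr' 1 1 (t := v) (by simp),
        gen_mat (fun k : ℤ => v ^ k) (zpow_zero v) hwa hn (-1) (-1) (t := -v⁻¹) (by simp),
        gen_mat (fun k : ℤ => v ^ k) (zpow_zero v) hwa hr' 0 (-1) (t := -1) (by simp),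
        gen_mat (fun k : ℤ => v ^ k) (zpow_zero v) hwa hn 0 1 (t := -(-1)⁻¹) (by simp [inv_neg])]
    rw [Subgroup.coe_mul, Subgroup.coe_mul, Units.val_mul, hh t ht, hh u hu, hh _ (mul_ne_zero ht hu),
      Matrix.diagonal_mul_diagonal]
    refine congrArg Matrix.diagonal (funext fun p => ?_)
    exact (mul_zpow t u _).symm

/-- The homomorphism onto Ω. -/
noncomputable def stOmega : chevB2.SteinbergGroup F →* ↥(Omega F ⇑Q₅) := PresentedGroup.toGroup (lift_rel hF)

theorem stOmega_gen (r : ℕ) (t : F) : (stOmega hF (chevB2.stGen F r t) : IsoGrp Q₅) = gen F r t :=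
  lift_stX hF r t

/-- The image in the isometry group. -/
noncomputable def img : Subgroup (IsoGrp Q₅) := ((Omega F ⇑Q₅).subtype.comp (stOmega hF)).range

theorem gen_mem_img (r : ℕ) (t : F) : gen F r t ∈ img hF := ⟨_, stOmega_gen hF r t⟩

theorem eich_basis_mem {u w : I5} (h : ∃ r < 8, uI r = u ∧ wI r = w) (c : F) :
    eich Q₅ (E F u) (c • E F w) ∈ img hF := by
  obtain ⟨r, hr, rfl, rfl⟩ := h
  have hs := (root_spec hr).2
  have e := gen_mem_img hF r ((sg r : F) * c)
  rw [gen, ← mul_assoc, show (sg r : F) * sg r = 1 by rcases hs with h | h <;> rw [h] <;> simp,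
    one_mul] at e
  exact e

theorem cover_one {u w : I5} (hu : u = e1 ∨ u = f1) (hw : w = z0 ∨ w = e2 ∨ w = f2) :
    ∃ r < 8, uI r = u ∧ wI r = w := by
  have h := cover
  simp only [Bool.and_eq_true, List.all_eq_true, List.any_eq_true, decide_eq_true_eq, List.mem_range] at h
  exact h.1 u (by simpa using hu) w (by simpa using hw)

theorem cover_two {u : I5} (hu : u = e2 ∨ u = f2) : ∃ r < 8, uI r = u ∧ wI r = z0 := by
  have h := cover
  simp only [Bool.and_eq_true, List.all_eq_true, List.any_eq_true, decide_eq_true_eq, List.mem_range] at h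
  exact h.2 u (by simpa using hu)

theorem coords (x : I5 → F) :
    x = x z0 • E F z0 + x e1 • E F e1 + x f1 • E F f1 + x e2 • E F e2 + x f2 • E F f2 := by
  funext a
  rcases a with u | i | i <;> (try fin_cases i) <;> simp [E]

/-- `U_{e₁}` and `U_{f₁}` lie in the image. -/
theorem eich_one_mem {u : I5} (hu : u = e1 ∨ u = f1) {w : I5 → F}
    (hw : w ∈ perp Q₅ (E F e1) (E F f1)) : eich Q₅ (E F u) w ∈ img hF := by
  obtain ⟨h1, h2⟩ := mem_perp.1 hw
  rw [polar_E, if_neg (by decide), one_mul] at h1 h2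
  change w f1 = 0 at h1
  change w e1 = 0 at h2
  have hu0 : u ≠ z0 := by rcases hu with rfl | rfl <;> decide
  have hp : ∀ v, (v = z0 ∨ v = e2 ∨ v = f2) → ∀ c : F, polar ⇑Q₅ (E F u) (c • E F v) = 0 := fun v hv c => by
    rw [pl_smul_right, polar_EE, mul_zero]
    rcases hu with rfl | rfl <;> rcases hv with rfl | rfl | rfl <;> decide
  rw [coords w, h1, h2, zero_smul, zero_smul, add_zero, add_zero]
  rw [← eich_add (Q_E hu0) (by rw [pl_add_right, hp _ (.inl rfl), hp _ (.inr (.inl rfl)), add_zero])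
    (hp _ (.inr (.inr rfl)) _), ← eich_add (Q_E hu0) (hp _ (.inl rfl) _) (hp _ (.inr (.inl rfl)) _)]
  exact mul_mem (mul_mem (eich_basis_mem hF (cover_one hu (.inl rfl)) _)
    (eich_basis_mem hF (cover_one hu (.inr (.inl rfl))) _)) (eich_basis_mem hF (cover_one hu (.inr (.inr rfl))) _)

/-- An Eichler transformation fixes vectors orthogonal to both parameters. -/
theorem eich_fix {u w y : I5 → F} (hu : Q₅ u = 0) (huw : polar ⇑Q₅ u w = 0) (h1 : polar ⇑Q₅ u y = 0)
    (h2 : polar ⇑Q₅ w y = 0) : ap (eich Q₅ u w) y = y := by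
  rw [eich_ap hu huw, h1, h2, mul_zero, add_zero, zero_smul, zero_smul, add_zero, sub_zero]

/-- Move a singular vector onto the line of `e`, inside `⟨U_e(S), U_f(S)⟩`. -/
theorem exists_move {e f : I5 → F} (h : HPair Q₅ e f) (S : Submodule F (I5 → F))
    (hS : S ≤ perp Q₅ e f) (hz : E F z0 ∈ S) (K : Subgroup (IsoGrp Q₅))
    (hK : ∀ w ∈ S, eich Q₅ e w ∈ K ∧ eich Q₅ f w ∈ K) (hF : ∃ a : F, a ≠ 0 ∧ a ≠ 1)
    {x : I5 → F} (hQ : Q₅ x = 0) (hw : wPart Q₅ e f x ∈ S)
    (hne : polar ⇑Q₅ e x ≠ 0 ∨ polar ⇑Q₅ f x ≠ 0 ∨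
      ∃ z ∈ S, Q₅ z = 0 ∧ polar ⇑Q₅ z (wPart Q₅ e f x) ≠ 0) :
    ∃ g ∈ K, ∃ c : F, ap g x = c • e := by
  set a := polar ⇑Q₅ f x with ha
  set b := polar ⇑Q₅ e x with hb
  set w := wPart Q₅ e f x with hwd
  have hx : x = a • e + b • f + w := decomp e f x
  -- finish once the `e`-coordinate is non-zero
  have fin : ∀ (a b : F) (w : I5 → F), w ∈ S → a ≠ 0 → a * b + Q₅ w = 0 →
      ∃ g ∈ K, ∃ c : F, ap g (a • e + b • f + w) = c • e := by
    intro a b w hw ha0 h0
    have hw' : (-a⁻¹) • w ∈ S := S.smul_mem _ hw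
    refine ⟨_, (hK _ hw').2, a, ?_⟩
    rw [h.eich_right_ap (hS hw') (hS hw), Q_smul, pl_smul_left, pl_self, smul_smul,
      show a * -a⁻¹ = -1 by field_simp, neg_one_smul, add_neg_cancel, add_zero,
      show b - -a⁻¹ * (2 * Q₅ w) - -a⁻¹ * -a⁻¹ * Q₅ w * a = 0 by
        field_simp; linear_combination h0, zero_smul, add_zero]
  have h0 : a * b + Q₅ w = 0 := by rw [← h.Q_comb (hS hw) a b, ← hx, hQ]
  by_cases ha0 : a = 0
  swap
  · obtain ⟨g, hg, c, hc⟩ := fin a b w hw ha0 h0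
    exact ⟨g, hg, c, (congrArg _ hx).trans hc⟩
  obtain ⟨w', hw', hne'⟩ : ∃ w' ∈ S, polar ⇑Q₅ w' w + Q₅ w' * b ≠ 0 := by
    by_cases hb0 : b = 0
    · rcases hne with h1 | h1 | ⟨z, hz, hQz, hzw⟩
      · exact absurd hb0 h1
      · exact absurd ha0 h1
      · exact ⟨z, hz, by rw [hQz, zero_mul, add_zero]; exact hzw⟩
    · obtain ⟨α, hα0, hα1⟩ := hF
      by_contra! hall
      have e1' := hall _ hz
      have e2' := hall _ (S.smul_mem α hz)
      rw [Q_z0, one_mul] at e1'
      rw [pl_smul_left, Q_smul, Q_z0, mul_one] at e2'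
      have : α * (α - 1) * b = 0 := by linear_combination e2' - α * e1'
      simp [hα0, sub_ne_zero.2 hα1, hb0] at this
  set a' := a - polar ⇑Q₅ w' w - Q₅ w' * b with ha'
  have ha'0 : a' ≠ 0 := by
    rw [ha', ha0, zero_sub, ← neg_add', neg_ne_zero]; exact hne'
  have e1'' : ap (eich Q₅ e w') x = a' • e + b • f + (w + b • w') :=
    (congrArg _ hx).trans (h.eich_left_ap (hS hw') (hS hw) a b)
  have hS' : w + b • w' ∈ S := S.add_mem hw (S.smul_mem _ hw')
  obtain ⟨g, hg, c, hc⟩ := fin a' b _ hS' ha'0 (by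
    rw [← h.Q_comb (hS hS') a' b, ← e1'', Q_ap, hQ])
  exact ⟨g * eich Q₅ e w', mul_mem hg (hK _ hw').1, c, by rw [ap_mul, e1'', hc]⟩

/-- Complete the frame: fix the partner of `e`. -/
theorem exists_move_partner {e f : I5 → F} (h : HPair Q₅ e f) (S : Submodule F (I5 → F))
    (hS : S ≤ perp Q₅ e f) {c : F} (hc : c ≠ 0) {y : I5 → F} (hQ : Q₅ y = 0)
    (hey : polar ⇑Q₅ e y = c⁻¹) (hw : wPart Q₅ e f y ∈ S) :
    ∃ w ∈ S, ap (eich Q₅ e w) y = c⁻¹ • f := by
  set a := polar ⇑Q₅ f y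
  set w := wPart Q₅ e f y with hwd
  have hy : y = a • e + c⁻¹ • f + w := by rw [← hey]; exact decomp e f y
  have h0 : a * c⁻¹ + Q₅ w = 0 := by rw [← h.Q_comb (hS hw) a c⁻¹, ← hy, hQ]
  have hw' : (-c) • w ∈ S := S.smul_mem _ hw
  refine ⟨_, hw', (congrArg _ hy).trans ?_⟩
  rw [h.eich_left_ap (hS hw') (hS hw), Q_smul, pl_smul_left, pl_self, smul_smul,
    show c⁻¹ * -c = -1 by field_simp, neg_one_smul, add_neg_cancel, add_zero,
    show a - -c * (2 * Q₅ w) - -c * -c * Q₅ w * c⁻¹ = 0 by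
      field_simp at h0 ⊢; linear_combination h0, zero_smul, zero_add]

/-- The isometries diagonal on the basis. -/
def IsTor (g : IsoGrp Q₅) : Prop := ∀ p, ∃ c : F, ap g (E F p) = c • E F p

theorem tor_comm {g h : IsoGrp Q₅} (hg : IsTor g) (hh : IsTor h) : g * h = h * g := by
  refine ext_ap fun x => ?_
  rw [coords x]
  simp only [map_add, map_smul]
  have key : ∀ p, ap (g * h) (E F p) = ap (h * g) (E F p) := fun p => by
    obtain ⟨c, hc⟩ := hg p
    obtain ⟨d, hd⟩ := hh p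
    rw [ap_mul, ap_mul, hc, hd, map_smul, map_smul, hc, hd, smul_comm]
  simp only [key]

/-- The span of the anisotropic vector. -/
def lineZ : Submodule F (I5 → F) := Submodule.span F {E F z0}

theorem lineZ_le : lineZ (F := F) ≤ perp Q₅ (E F e2) (E F f2) := by
  rw [lineZ, Submodule.span_le, Set.singleton_subset_iff]
  exact E_mem_perp (p := e2) (by decide) (by decide)

theorem eich_two_mem {u : I5} (hu : u = e2 ∨ u = f2) {w : I5 → F} (hw : w ∈ lineZ (F := F)) :
    eich Q₅ (E F u) w ∈ img hF := by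
  obtain ⟨c, rfl⟩ := Submodule.mem_span_singleton.1 hw
  exact eich_basis_mem hF (cover_two hu) c

theorem eich_two_fix {u : I5} (hu : u = e2 ∨ u = f2) {w : I5 → F} (hw : w ∈ lineZ (F := F)) {q : I5}
    (hq : q = e1 ∨ q = f1) : ap (eich Q₅ (E F u) w) (E F q) = E F q := by
  obtain ⟨c, rfl⟩ := Submodule.mem_span_singleton.1 hw
  have hu0 : u ≠ z0 := by rcases hu with rfl | rfl <;> decide
  refine eich_fix (Q_E hu0) ?_ ?_ ?_
  · rw [pl_smul_right, polar_EE, mul_zero]
    rcases hu with rfl | rfl <;> decide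
  · apply polar_EE
    rcases hu with rfl | rfl <;> rcases hq with rfl | rfl <;> decide
  · rw [pl_smul_left, polar_EE, mul_zero]
    rcases hq with rfl | rfl <;> decide

/-- The coordinates of a vector from its polar values. -/
theorem coord_eq {q : I5} (hq : q ≠ z0) (x : I5 → F) : polar ⇑Q₅ (E F q) x = x (opp q) := by
  rw [polar_E, if_neg hq, one_mul]

/-- Every isometry is a torus element times an element of the image. -/
theorem exists_tor (g : IsoGrp Q₅) : ∃ m ∈ img hF, IsTor (m * g) := by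
  have hne : ∀ (k : IsoGrp Q₅) (p : I5), ap k (E F p) ≠ 0 := fun k p h => by
    have h' : E F p = 0 := ap_inj k (h.trans (map_zero _).symm)
    have := congrFun h' p
    simp [E] at this
  have hP1 : HPair Q₅ (E F e1) (E F f1) := hpair (p := e1) (by decide)
  have hP2 : HPair Q₅ (E F e2) (E F f2) := hpair (p := e2) (by decide)
  -- e₁
  set x := ap g (E F e1) with hx
  have hQx : Q₅ x = 0 := by rw [hx, Q_ap, Q_E (by decide)]
  obtain ⟨m1, hm1, c, hc⟩ := exists_move hP1 _ le_rfl (E_mem_perp (p := e1) (by decide) (by decide))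
    (img hF) (fun w hw => ⟨eich_one_mem hF (.inl rfl) hw, eich_one_mem hF (.inr rfl) hw⟩) hF hQx
    (hP1.wPart_mem x) (by
      by_contra! hall
      obtain ⟨hb, ha, hz⟩ := hall
      have hx' : wPart Q₅ (E F e1) (E F f1) x = x := by simp [wPart, ha, hb]
      rw [hx'] at hz
      have h1 := hz _ (E_mem_perp (p := e1) (q := e2) (by decide) (by decide)) (Q_E (by decide))
      have h2 := hz _ (E_mem_perp (p := e1) (q := f2) (by decide) (by decide)) (Q_E (by decide))
      rw [coord_eq (by decide)] at h1 h2 ha hb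
      change x f2 = 0 at h1
      change x e2 = 0 at h2
      change x e1 = 0 at ha
      change x f1 = 0 at hb
      have hx0 : x = x z0 • E F z0 := (coords x).trans (by rw [h1, h2, ha, hb]; simp)
      rw [hx0, Q_smul, Q_z0, mul_one, mul_self_eq_zero] at hQx
      exact hne g e1 (by rw [← hx, hx0, hQx, zero_smul]))
  have hc0 : c ≠ 0 := fun h => hne (m1 * g) e1 (by rw [ap_mul, ← hx, hc, h, zero_smul])
  -- f₁
  set g1 := m1 * g with hg1
  have hg1e : ap g1 (E F e1) = c • E F e1 := by rw [hg1, ap_mul, ← hx, hc]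
  set y := ap g1 (E F f1) with hy
  have hey : polar ⇑Q₅ (E F e1) y = c⁻¹ := by
    have := polar_ap g1 (E F e1) (E F f1)
    rw [hg1e, ← hy, pl_smul_left, hP1.pf] at this
    exact eq_inv_of_mul_eq_one_right this
  obtain ⟨w1, hw1, hy'⟩ := exists_move_partner hP1 _ le_rfl hc0 (by rw [hy, Q_ap, Q_E (by decide)]) hey
    (hP1.wPart_mem y)
  set m2 := eich Q₅ (E F e1) w1
  have hm2 : m2 ∈ img hF := eich_one_mem hF (.inl rfl) hw1
  set g2 := m2 * g1 with hg2
  have hg2e : ap g2 (E F e1) = c • E F e1 := by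
    rw [hg2, ap_mul, hg1e, map_smul, eich_fix (Q_E (by decide)) (mem_perp.1 hw1).1 (polar_EE (by decide))
      (by rw [pl_comm]; exact (mem_perp.1 hw1).1)]
  have hg2f : ap g2 (E F f1) = c⁻¹ • E F f1 := by rw [hg2, ap_mul, ← hy, hy']
  -- polar values against e₁, f₁
  have hperp : ∀ (k : IsoGrp Q₅), ap k (E F e1) = c • E F e1 → ap k (E F f1) = c⁻¹ • E F f1 →
      ∀ p, p ≠ e1 → p ≠ f1 → (ap k (E F p)) e1 = 0 ∧ (ap k (E F p)) f1 = 0 := by
    intro k he hf p hp1 hp2
    have h1 := polar_ap k (E F e1) (E F p)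
    have h2 := polar_ap k (E F f1) (E F p)
    rw [he, pl_smul_left, coord_eq (by decide), polar_EE (Ne.symm hp2)] at h1
    rw [hf, pl_smul_left, coord_eq (by decide), polar_EE (Ne.symm hp1)] at h2
    exact ⟨(mul_eq_zero.1 h2).resolve_left (inv_ne_zero hc0), (mul_eq_zero.1 h1).resolve_left hc0⟩
  have hline : ∀ z : I5 → F, z e1 = 0 → z f1 = 0 → wPart Q₅ (E F e2) (E F f2) z ∈ lineZ (F := F) := by
    intro z h1 h2
    refine Submodule.mem_span_singleton.2 ⟨z z0, ?_⟩
    rw [wPart, coord_eq (by decide), coord_eq (by decide)]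
    have e := coords z
    rw [h1, h2] at e
    show z z0 • E F z0 = z - z e2 • E F e2 - z f2 • E F f2
    linear_combination (norm := module) -e
  -- e₂
  set z := ap g2 (E F e2) with hz
  obtain ⟨hz1, hz2⟩ := hperp g2 hg2e hg2f e2 (by decide) (by decide)
  replace hz1 : z e1 = 0 := hz1
  replace hz2 : z f1 = 0 := hz2
  have hQz : Q₅ z = 0 := by rw [hz, Q_ap, Q_E (by decide)]
  set K : Subgroup (IsoGrp Q₅) := img hF ⊓
    { carrier := {k | ap k (E F e1) = E F e1 ∧ ap k (E F f1) = E F f1}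
      one_mem' := ⟨ap_one _, ap_one _⟩
      mul_mem' := fun {a b} ha hb => ⟨by rw [ap_mul, hb.1, ha.1], by rw [ap_mul, hb.2, ha.2]⟩
      inv_mem' := fun {a} ha => ⟨ap_inj a (by rw [← ap_mul, mul_inv_cancel, ap_one, ha.1]),
        ap_inj a (by rw [← ap_mul, mul_inv_cancel, ap_one, ha.2])⟩ } with hKdef
  obtain ⟨m3, ⟨hm3, hm3e, hm3f⟩, d, hd⟩ := exists_move hP2 lineZ lineZ_le (Submodule.mem_span_singleton_self _)
    K (fun w hw => ⟨⟨eich_two_mem hF (.inl rfl) hw, eich_two_fix (.inl rfl) hw (.inl rfl),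
        eich_two_fix (.inl rfl) hw (.inr rfl)⟩,
      ⟨eich_two_mem hF (.inr rfl) hw, eich_two_fix (.inr rfl) hw (.inl rfl),
        eich_two_fix (.inr rfl) hw (.inr rfl)⟩⟩) hF hQz (hline z hz1 hz2) (by
      by_contra! hall
      obtain ⟨hb, ha, -⟩ := hall
      rw [coord_eq (by decide)] at ha hb
      change z e2 = 0 at ha
      change z f2 = 0 at hb
      have hz0 : z = z z0 • E F z0 := (coords z).trans (by rw [ha, hb, hz1, hz2]; simp)
      rw [hz0, Q_smul, Q_z0, mul_one, mul_self_eq_zero] at hQz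
      exact hne g2 e2 (by rw [← hz, hz0, hQz, zero_smul]))
  have hd0 : d ≠ 0 := fun h => hne (m3 * g2) e2 (by rw [ap_mul, ← hz, hd, h, zero_smul])
  set g3 := m3 * g2 with hg3
  have hg3e : ap g3 (E F e1) = c • E F e1 := by rw [hg3, ap_mul, hg2e, map_smul, hm3e]
  have hg3f : ap g3 (E F f1) = c⁻¹ • E F f1 := by rw [hg3, ap_mul, hg2f, map_smul, hm3f]
  have hg3e2 : ap g3 (E F e2) = d • E F e2 := by rw [hg3, ap_mul, ← hz, hd]
  -- f₂
  set v := ap g3 (E F f2) with hv
  obtain ⟨hv1, hv2⟩ := hperp g3 hg3e hg3f f2 (by decide) (by decide)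
  have hev : polar ⇑Q₅ (E F e2) v = d⁻¹ := by
    have := polar_ap g3 (E F e2) (E F f2)
    rw [hg3e2, ← hv, pl_smul_left, hP2.pf] at this
    exact eq_inv_of_mul_eq_one_right this
  obtain ⟨w4, hw4, hv'⟩ := exists_move_partner hP2 lineZ lineZ_le hd0 (by rw [hv, Q_ap, Q_E (by decide)]) hev
    (hline v hv1 hv2)
  set m4 := eich Q₅ (E F e2) w4
  set g4 := m4 * g3 with hg4
  have hg4e : ap g4 (E F e1) = c • E F e1 := by
    rw [hg4, ap_mul, hg3e, map_smul, eich_two_fix (.inl rfl) hw4 (.inl rfl)]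
  have hg4f : ap g4 (E F f1) = c⁻¹ • E F f1 := by
    rw [hg4, ap_mul, hg3f, map_smul, eich_two_fix (.inl rfl) hw4 (.inr rfl)]
  have hg4e2 : ap g4 (E F e2) = d • E F e2 := by
    rw [hg4, ap_mul, hg3e2, map_smul, eich_fix (Q_E (by decide)) (mem_perp.1 (lineZ_le hw4)).1
      (polar_EE (by decide)) (by rw [pl_comm]; exact (mem_perp.1 (lineZ_le hw4)).1)]
  have hg4f2 : ap g4 (E F f2) = d⁻¹ • E F f2 := by rw [hg4, ap_mul, ← hv, hv']
  -- the anisotropic vector
  obtain ⟨h01, h02⟩ := hperp g4 hg4e hg4f z0 (by decide) (by decide)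
  have h03 : (ap g4 (E F z0)) f2 = 0 := by
    have h1 := polar_ap g4 (E F e2) (E F z0)
    rw [hg4e2, pl_smul_left, coord_eq (by decide), polar_EE (by decide)] at h1
    exact (mul_eq_zero.1 h1).resolve_left hd0
  have h04 : (ap g4 (E F z0)) e2 = 0 := by
    have h1 := polar_ap g4 (E F f2) (E F z0)
    rw [hg4f2, pl_smul_left, coord_eq (by decide), polar_EE (by decide)] at h1
    exact (mul_eq_zero.1 h1).resolve_left (inv_ne_zero hd0)
  refine ⟨m4 * m3 * m2 * m1,
    mul_mem (mul_mem (mul_mem (eich_two_mem hF (.inl rfl) hw4) hm3) hm2) hm1, ?_⟩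
  have e : m4 * m3 * m2 * m1 * g = g4 := by simp only [hg4, hg3, hg2, hg1, mul_assoc]
  rw [e]
  intro p
  rcases p with u | i | i
  · refine ⟨(ap g4 (E F z0)) z0, ?_⟩
    exact (coords (ap g4 (E F z0))).trans (by rw [h01, h02, h03, h04]; simp)
  · fin_cases i
    · exact ⟨_, hg4e⟩
    · exact ⟨_, hg4e2⟩
  · fin_cases i
    · exact ⟨_, hg4f⟩
    · exact ⟨_, hg4f2⟩

theorem tor_normalises {τ : IsoGrp Q₅} (hτ : IsTor τ) {x : IsoGrp Q₅} (hx : x ∈ img hF) :
    τ * x * τ⁻¹ ∈ img hF := by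
  obtain ⟨a, rfl⟩ := hx
  have hgen : Subgroup.closure (Set.range (PresentedGroup.of (rels := chevB2.steinbergRels F))) = ⊤ :=
    PresentedGroup.closure_range_of _
  induction (hgen ▸ Subgroup.mem_top a : a ∈ Subgroup.closure _) using Subgroup.closure_induction with
  | mem a ha =>
    obtain ⟨⟨r, t⟩, rfl⟩ := ha
    obtain ⟨cu, hcu⟩ := hτ (uI r.val)
    obtain ⟨cw, hcw⟩ := hτ (wI r.val)
    have e : ((Omega F ⇑Q₅).subtype.comp (stOmega hF)) (PresentedGroup.of (r, t)) = gen F r.val t := by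
      simp [stOmega, genOmega]
    rw [e, gen, conj_eich, map_smul, hcu, hcw, eich_smul_left, smul_smul, smul_smul,
      show cu * (((sg r.val : ℤ) : F) * t) * cw = ((sg r.val : ℤ) : F) * (cu * t * cw) by ring]
    exact gen_mem_img hF _ _
  | one => simp [one_mem]
  | mul a b _ _ ha hb =>
    rw [map_mul]
    have := mul_mem ha hb
    convert this using 1
    group
  | inv a _ ha =>
    rw [map_inv]
    have := inv_mem ha
    convert this using 1
    group

theorem omega_le_img : Omega F ⇑Q₅ ≤ img hF := by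
  haveI : (img hF).Normal := ⟨fun x hx g => by
    obtain ⟨m, hm, hτ⟩ := exists_tor hF g
    have h1 := mul_mem (mul_mem (inv_mem hm) (tor_normalises hF hτ hx)) hm
    have e : m⁻¹ * (m * g * x * (m * g)⁻¹) * m = g * x * g⁻¹ := by group
    rwa [e] at h1⟩
  refine Subgroup.Normal.quotient_commutative_iff_commutator_le.mp ⟨⟨fun a b => ?_⟩⟩
  obtain ⟨g, rfl⟩ := QuotientGroup.mk_surjective a
  obtain ⟨k, rfl⟩ := QuotientGroup.mk_surjective b
  obtain ⟨m, hm, hτ⟩ := exists_tor hF g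
  obtain ⟨n, hn, hσ⟩ := exists_tor hF k
  have eg : (QuotientGroup.mk g : IsoGrp Q₅ ⧸ img hF) = QuotientGroup.mk (m * g) := by
    rw [QuotientGroup.mk_mul, (QuotientGroup.eq_one_iff m).2 hm, one_mul]
  have ek : (QuotientGroup.mk k : IsoGrp Q₅ ⧸ img hF) = QuotientGroup.mk (n * k) := by
    rw [QuotientGroup.mk_mul, (QuotientGroup.eq_one_iff n).2 hn, one_mul]
  show (QuotientGroup.mk g : IsoGrp Q₅ ⧸ img hF) * QuotientGroup.mk k = QuotientGroup.mk k * QuotientGroup.mk g
  rw [eg, ek, ← QuotientGroup.mk_mul, ← QuotientGroup.mk_mul, tor_comm hτ hσ]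

theorem stOmega_surjective : Function.Surjective (stOmega hF) := fun g => by
  obtain ⟨x, hx⟩ := omega_le_img hF g.2
  exact ⟨x, Subtype.ext hx⟩

theorem omega_not_comm (hF : ∃ a : F, a ≠ 0 ∧ a ≠ 1) : ∃ a b : ↥(Omega F ⇑Q₅), a * b ≠ b * a := by
  refine ⟨⟨gen F 5 1, gen_mem hF _ _⟩, ⟨gen F 4 1, gen_mem hF _ _⟩, fun h => ?_⟩
  have h' := congrArg (fun g : ↥(Omega F ⇑Q₅) => (((g : IsoGrp Q₅) : GL I5 F) : Matrix I5 I5 F)) h
  have hwa : ∀ k l : ℕ, (fun _ : ℕ => (1 : F)) (k + l) = (fun _ : ℕ => (1 : F)) k * (fun _ : ℕ => (1 : F)) l :=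
    fun _ _ => (one_mul _).symm
  simp only [Subgroup.coe_mul, Units.val_mul,
    gen_mat (fun _ : ℕ => (1 : F)) rfl hwa (show 5 < 8 by norm_num) 0 1 (t := (1 : F)) (by simp),
    gen_mat (fun _ : ℕ => (1 : F)) rfl hwa (show 4 < 8 by norm_num) 0 1 (t := (1 : F)) (by simp)] at h'
  rw [← evalS_mul (fun _ : ℕ => (1 : F)) hwa, ← evalS_mul (fun _ : ℕ => (1 : F)) hwa] at h'
  have key : ∀ (L : List (STerm ℕ I5)) (a b : I5), evalS (fun _ : ℕ => (1 : F)) L a b =
      ((((L.filter fun y => decide (y.2.1 = a ∧ y.2.2.1 = b)).map fun y => y.2.2.2).sum : ℤ) : F) := by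
    intro L a b
    induction L with
    | nil => simp [evalS]
    | cons x L ih =>
      rw [evalS_cons, Matrix.add_apply, ih, List.filter_cons]
      by_cases hx : x.2.1 = a ∧ x.2.2.1 = b
      · simp [hx, Matrix.single]
      · simp [hx, Matrix.single]
  have h'' := congrFun (congrFun h' z0) f1
  rw [key, key] at h''
  have e : (((mulS (xT 5 (0 : ℕ) 1) (xT 4 (0 : ℕ) 1)).filter fun y => decide (y.2.1 = z0 ∧ y.2.2.1 = f1)).map
      fun y => y.2.2.2).sum = 1 + (((mulS (xT 4 (0 : ℕ) 1) (xT 5 (0 : ℕ) 1)).filter fun y =>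
        decide (y.2.1 = z0 ∧ y.2.2.1 = f1)).map fun y => y.2.2.2).sum := by decide +kernel
  rw [e] at h''
  push_cast at h''
  exact one_ne_zero (α := F) (by linear_combination h'')

end Cfsg.Agent.ChevOrth.B2
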