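import Cfsg.Agent.Lib.ChevOrth.Sparse
import Cfsg.Agent.EqLemmas

/-!
# Root matrices of B₂ in the orthogonal representation

`rootTab` lists for each root the two vectors `u`, `w` and a sign; the root element is `eich u (σ t • w)`.
`xT` is its list of terms; `commB2_all`, `hB2_all` are the table checks.
-/

set_option autoImplicit false
set_option maxRecDepth 20000

namespace Cfsg.Agent.ChevOrth.B2

open Cfsg.Lie

/-- The index set of the natural module. -/
abbrev I5 : Type := Unit ⊕ (Fin 2 ⊕ Fin 2)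

/-- The anisotropic basis vector. -/
abbrev z0 : I5 := Sum.inl ()
/-- e₁. -/
abbrev e1 : I5 := Sum.inr (Sum.inl 0)
/-- e₂. -/
abbrev e2 : I5 := Sum.inr (Sum.inl 1)
/-- f₁. -/
abbrev f1 : I5 := Sum.inr (Sum.inr 0)
/-- f₂. -/
abbrev f2 : I5 := Sum.inr (Sum.inr 1)

/-- The opposite basis vector. -/
def opp : I5 → I5
  | Sum.inl u => Sum.inl u
  | Sum.inr (Sum.inl i) => Sum.inr (Sum.inr i)
  | Sum.inr (Sum.inr i) => Sum.inr (Sum.inl i)

/-- The roots (generated). -/
def rootTab : List (I5 × I5 × ℤ) :=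
  [(f1, f2, 1), (f1, z0, 1), (f2, z0, 1), (f1, e2, 1), (e1, f2, -1), (e2, z0, -1), (e1, z0, -1), (e1, e2, -1)]

/-- The first vector. -/
def uI (r : ℕ) : I5 := (rootTab.getD r (e1, e2, 0)).1
/-- The second vector. -/
def wI (r : ℕ) : I5 := (rootTab.getD r (e1, e2, 0)).2.1
/-- The sign. -/
def sg (r : ℕ) : ℤ := (rootTab.getD r (e1, e2, 0)).2.2

/-- The identity. -/
def oneT (κ : Type) [Zero κ] : List (STerm κ I5) :=
  [(0, z0, z0, 1), (0, e1, e1, 1), (0, e2, e2, 1), (0, f1, f1, 1), (0, f2, f2, 1)]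

/-- The terms of `x_r(c * w k)`. -/
def xT {κ : Type} [Zero κ] [Add κ] (r : ℕ) (k : κ) (c : ℤ) : List (STerm κ I5) :=
  oneT κ ++ if wI r = z0 then
      [(k, z0, opp (uI r), sg r * c), (k, uI r, z0, -(2 * (sg r * c))), (k + k, uI r, opp (uI r), -(c * c))]
    else [(k, wI r, opp (uI r), sg r * c), (k, uI r, opp (wI r), -(sg r * c))]

/-- The terms of a factor of the commutator formula. -/
def wordT (τ : ℕ × ℤ × ℕ × ℕ) : List (STerm (ℕ × ℕ) I5) :=
  xT τ.1 (τ.2.2.1, τ.2.2.2) (τ.2.1 * (-1) ^ τ.2.2.1)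

/-- The relation of a pair of roots. -/
def commB2 (r s : ℕ) : Bool :=
  ((chevB2.commTerms r s).all fun τ => decide (τ.1 < 8)) &&
  checkS (mulS (xT s (0, 1) 1) (xT r (1, 0) 1))
    (mulS (mulS (xT r (1, 0) 1) (xT s ((0, 1) : ℕ × ℕ) 1))
      (prodS (oneT (ℕ × ℕ)) ((chevB2.commTerms r s).map wordT)))

/-- Exponents of the diagonal element of a root. -/
def hexp (r : ℕ) (p : I5) : ℤ :=
  ([[0, -1, -1, 1, 1], [0, -2, 0, 2, 0], [0, 0, -2, 0, 2], [0, -1, 1, 1, -1], [0, 1, -1, -1, 1],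
    [0, 0, 2, 0, -2], [0, 2, 0, -2, 0], [0, 1, 1, -1, -1]].getD r []).getD
    (if p = z0 then 0 else if p = e1 then 1 else if p = e2 then 2 else if p = f1 then 3 else 4) 0

/-- The diagonal element of a root. -/
def diagT (r : ℕ) : List (STerm ℤ I5) :=
  [(hexp r z0, z0, z0, 1), (hexp r e1, e1, e1, 1), (hexp r e2, e2, e2, 1), (hexp r f1, f1, f1, 1),
   (hexp r f2, f2, f2, 1)]

/-- n_r(t) n_r(-1) is diagonal. -/
def hB2 (r : ℕ) : Bool :=
  checkS (prodS (oneT ℤ) [xT r (1 : ℤ) 1, xT (chevB2.neg r) (-1 : ℤ) (-1), xT r (1 : ℤ) 1,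
    xT r (0 : ℤ) (-1), xT (chevB2.neg r) (0 : ℤ) 1, xT r (0 : ℤ) (-1)]) (diagT r)

/-- General position of the two vectors, signs ±1. -/
def rootOK (r : ℕ) : Bool :=
  decide (uI r ≠ z0 ∧ uI r ≠ wI r ∧ uI r ≠ opp (wI r)) && decide (sg r = 1 ∨ sg r = -1)

theorem commB2_all : ((List.range 8).all fun r => (List.range 8).all fun s =>
    decide (s = r) || decide (s = chevB2.neg r) || commB2 r s) = true := by
  decide +kernel

theorem hB2_all : ((List.range 8).all hB2) = true := by decide +kernel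

theorem rootOK_all : ((List.range 8).all rootOK) = true := by decide +kernel

/-- The roots realise every needed Eichler transformation. -/
theorem cover : ([e1, f1].all fun u => [z0, e2, f2].all fun w =>
      (List.range 8).any fun r => decide (uI r = u) && decide (wI r = w)) &&
    ([e2, f2].all fun u => (List.range 8).any fun r => decide (uI r = u) && decide (wI r = z0)) = true := by
  decide +kernel

end Cfsg.Agent.ChevOrth.B2
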