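import Cfsg.Agent.EqLemmas

/-!
# Root matrices of D₄ in the orthogonal representation

`rootTab` lists for each root `±εᵢ ± εⱼ` the data `(i, +?, j, +?, sign)`; `MZ r` is the nilpotent
integer matrix of the root; `pairOK_all`, `rankOneOK_all` are the table checks.
-/

set_option autoImplicit false
set_option maxRecDepth 20000

namespace Cfsg.Agent.ChevOrth.D4

open Cfsg.Lie

/-- The index set of the natural module. -/
abbrev I8 : Type := Fin 4 ⊕ Fin 4

/-- The roots in ε-coordinates, with signs (generated). -/
def rootTab : List (ℕ × Bool × ℕ × Bool × ℤ) :=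
  [(0, false, 1, false, -1), (0, false, 2, false, 1), (0, false, 3, true, -1), (0, false, 3, false, -1), (0, false, 2, true, -1), (0, false, 1, true, -1), (1, false, 2, false, 1), (1, false, 3, true, -1), (1, false, 3, false, -1), (1, false, 2, true, -1), (2, false, 3, true, -1), (2, false, 3, false, -1), (2, true, 3, true, 1), (2, true, 3, false, 1), (1, true, 2, false, 1), (1, true, 3, true, 1), (1, true, 3, false, 1), (1, true, 2, true, -1), (0, true, 1, false, 1), (0, true, 2, false, 1), (0, true, 3, true, 1), (0, true, 3, false, 1), (0, true, 2, true, -1), (0, true, 1, true, 1)]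

/-- The basis vector of `± εᵢ`. -/
def bas (i : ℕ) (pos : Bool) : I8 := if pos then Sum.inl (Fin.ofNat 4 i) else Sum.inr (Fin.ofNat 4 i)

/-- The opposite basis vector. -/
def opp : I8 → I8
  | Sum.inl i => Sum.inr i
  | Sum.inr i => Sum.inl i

/-- The first basis vector of a root. -/
def uI (r : ℕ) : I8 := bas (rootTab.getD r (0, true, 1, true, 0)).1 (rootTab.getD r (0, true, 1, true, 0)).2.1

/-- The second basis vector of a root. -/
def wI (r : ℕ) : I8 :=
  bas (rootTab.getD r (0, true, 1, true, 0)).2.2.1 (rootTab.getD r (0, true, 1, true, 0)).2.2.2.1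

/-- The sign of a root. -/
def sg (r : ℕ) : ℤ := (rootTab.getD r (0, true, 1, true, 0)).2.2.2.2

/-- The matrix of a root. -/
def MZ (r : ℕ) : Matrix I8 I8 ℤ :=
  Matrix.of fun a b => (if a = wI r ∧ b = opp (uI r) then sg r else 0) -
    (if a = uI r ∧ b = opp (wI r) then sg r else 0)

/-- The relation of a pair of roots. -/
def pairOK (r s : ℕ) : Bool :=
  match chevD4.commTerms r s with
  | [] => decide (MZ s * MZ r = MZ r * MZ s)
  | [(k, c, 1, 1)] => decide (k < 24) && decide (MZ s * MZ r = MZ r * MZ s - c • MZ k) &&
      decide (MZ r * MZ k = 0) && decide (MZ s * MZ k = 0)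
  | _ => false

/-- The relations of a root and its negative; general position of the two vectors; sign ±1. -/
def rankOneOK (r : ℕ) : Bool :=
  decide (MZ r * MZ r = 0) && decide (MZ r * MZ (chevD4.neg r) * MZ r = MZ r) &&
    decide (uI r ≠ wI r ∧ uI r ≠ opp (wI r)) && decide (sg r = 1 ∨ sg r = -1)

theorem pairOK_all : ((List.range 24).all fun r => (List.range 24).all fun s =>
    decide (s = r) || decide (s = chevD4.neg r) || pairOK r s) = true := by
  decide +kernel

theorem rankOneOK_all : ((List.range 24).all rankOneOK) = true := by decide +kernel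

/-- The roots ±ε₁ ± εⱼ: every basis vector outside the first pair. -/
theorem cover : ((List.range 3).all fun j => [true, false].all fun p => [true, false].all fun p' =>
    (List.range 24).any fun r => decide (uI r = bas 0 p) && decide (wI r = bas (j + 1) p')) = true := by
  decide +kernel

end Cfsg.Agent.ChevOrth.D4
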