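import Cfsg.Agent.EqLemmas

/-!
# Sparse matrices with monomial entries

A term `(k, a, b, c)` stands for `c * w k` at position `(a, b)`, for a multiplicative `w : κ → F` on the
monoid of exponents. `eval_mulT`, `eval_oneT`, `eval_eq_of_checkT` turn a kernel computation into an
identity of matrices over every field.
-/

set_option autoImplicit false

namespace Cfsg.Agent.ChevOrth

/-- A term: exponent, row, column, coefficient. -/
abbrev STerm (κ I : Type) : Type := κ × I × I × ℤ

variable {κ I : Type} [DecidableEq κ] [DecidableEq I] {F : Type*} [CommRing F]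

/-- The matrix of a list of terms. -/
def evalS (w : κ → F) (L : List (STerm κ I)) : Matrix I I F :=
  (L.map fun x => Matrix.single x.2.1 x.2.2.1 ((x.2.2.2 : F) * w x.1)).sum

omit [DecidableEq κ] in
theorem evalS_nil (w : κ → F) : evalS (I := I) w [] = 0 := rfl

omit [DecidableEq κ] in
theorem evalS_cons (w : κ → F) (x : STerm κ I) (L : List (STerm κ I)) :
    evalS w (x :: L) = Matrix.single x.2.1 x.2.2.1 ((x.2.2.2 : F) * w x.1) + evalS w L := by
  simp [evalS]

omit [DecidableEq κ] in
theorem evalS_append (w : κ → F) (L L' : List (STerm κ I)) :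
    evalS w (L ++ L') = evalS w L + evalS w L' := by simp [evalS]

/-- Product of lists of terms. -/
def mulS [Add κ] (L L' : List (STerm κ I)) : List (STerm κ I) :=
  L.flatMap fun x => (L'.filter fun y => decide (y.2.1 = x.2.2.1)).map fun y =>
    (x.1 + y.1, x.2.1, y.2.2.1, x.2.2.2 * y.2.2.2)

omit [DecidableEq κ] in
theorem evalS_mul [Fintype I] [Add κ] (w : κ → F) (hw : ∀ k l, w (k + l) = w k * w l)
    (L L' : List (STerm κ I)) : evalS w (mulS L L') = evalS w L * evalS w L' := by
  induction L with
  | nil => simp [mulS, evalS]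
  | cons x L ih =>
    have h1 : ∀ M : List (STerm κ I),
        evalS w ((M.filter fun y => decide (y.2.1 = x.2.2.1)).map fun y =>
          (x.1 + y.1, x.2.1, y.2.2.1, x.2.2.2 * y.2.2.2)) =
        Matrix.single x.2.1 x.2.2.1 ((x.2.2.2 : F) * w x.1) * evalS w M := by
      intro M
      induction M with
      | nil => simp [evalS]
      | cons y M ihM =>
        rw [evalS_cons w y, mul_add, ← ihM, List.filter_cons]
        by_cases h : y.2.1 = x.2.2.1
        · rw [if_pos (by simpa using h), List.map_cons, evalS_cons, h, Matrix.single_mul_single_same]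
          congr 2
          push_cast
          rw [hw]; ring
        · rw [if_neg (by simpa using h), Matrix.single_mul_single_of_ne _ _ _ _ (Ne.symm h), zero_add]
    show evalS w (((fun x => _) x) ++ mulS L L') = _
    rw [evalS_append, ih, h1, evalS_cons, add_mul]

/-- The product of a list of lists of terms. -/
def prodS [Add κ] (one : List (STerm κ I)) : List (List (STerm κ I)) → List (STerm κ I)
  | [] => one
  | L :: Ls => mulS L (prodS one Ls)

omit [DecidableEq κ] in
theorem evalS_prod [Fintype I] [Add κ] (w : κ → F) (hw : ∀ k l, w (k + l) = w k * w l)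
    (one : List (STerm κ I)) (h1 : evalS w one = 1) (Ls : List (List (STerm κ I))) :
    evalS w (prodS one Ls) = (Ls.map (evalS w)).prod := by
  induction Ls with
  | nil => simpa [prodS] using h1
  | cons L Ls ih => simp [prodS, evalS_mul w hw, ih]

/-- All positions with all exponents cancel in `L - L'`. -/
def checkS (L L' : List (STerm κ I)) : Bool :=
  let M := L ++ L'.map fun x => (x.1, x.2.1, x.2.2.1, -x.2.2.2)
  M.all fun x => decide (((M.filter fun y => decide (y.1 = x.1 ∧ y.2.1 = x.2.1 ∧ y.2.2.1 = x.2.2.1)).map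
    fun y => y.2.2.2).sum = 0)

theorem evalS_eq_zero (w : κ → F) (M : List (STerm κ I))
    (h : ∀ x ∈ M, ((M.filter fun y => decide (y.1 = x.1 ∧ y.2.1 = x.2.1 ∧ y.2.2.1 = x.2.2.1)).map
      fun y => y.2.2.2).sum = 0) : evalS w M = 0 := by
  let g : κ × I × I → Matrix I I F := fun k => Matrix.single k.2.1 k.2.2 (w k.1)
  have key : ∀ (N : List (STerm κ I)) (K : Finset (κ × I × I)), (∀ x ∈ N, (x.1, x.2.1, x.2.2.1) ∈ K) →
      evalS w N = ∑ k ∈ K, ((N.filter fun y =>
        decide (y.1 = k.1 ∧ y.2.1 = k.2.1 ∧ y.2.2.1 = k.2.2)).map fun y => y.2.2.2).sum • g k := by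
    intro N K
    induction N with
    | nil => simp [evalS]
    | cons x N ih =>
      intro hN
      rw [evalS_cons, ih fun y hy => hN y (List.mem_cons_of_mem x hy)]
      have hx : ∀ k : κ × I × I, (((x :: N).filter fun y =>
          decide (y.1 = k.1 ∧ y.2.1 = k.2.1 ∧ y.2.2.1 = k.2.2)).map fun y => y.2.2.2).sum =
          (if (x.1, x.2.1, x.2.2.1) = k then x.2.2.2 else 0) + ((N.filter fun y =>
            decide (y.1 = k.1 ∧ y.2.1 = k.2.1 ∧ y.2.2.1 = k.2.2)).map fun y => y.2.2.2).sum := fun k => by
        by_cases hk : x.1 = k.1 ∧ x.2.1 = k.2.1 ∧ x.2.2.1 = k.2.2 <;> simp [hk, Prod.ext_iff]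
      simp only [hx, add_smul, Finset.sum_add_distrib, ite_smul, zero_smul, Finset.sum_ite_eq,
        hN x List.mem_cons_self, if_true]
      congr 1
      simp [g, Matrix.smul_single]
  rw [key M (M.map fun x => (x.1, x.2.1, x.2.2.1)).toFinset
    fun x hx => List.mem_toFinset.2 (List.mem_map.2 ⟨x, hx, rfl⟩)]
  refine Finset.sum_eq_zero fun k hk => ?_
  obtain ⟨x, hx, rfl⟩ := List.mem_map.1 (List.mem_toFinset.1 hk)
  rw [h x hx, zero_smul]

theorem eval_eq_of_checkS (w : κ → F) {L L' : List (STerm κ I)} (h : checkS L L' = true) :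
    evalS w L = evalS w L' := by
  have hneg : ∀ N : List (STerm κ I),
      evalS w (N.map fun x => (x.1, x.2.1, x.2.2.1, -x.2.2.2)) = -evalS w N := by
    intro N
    induction N with
    | nil => simp [evalS]
    | cons x N ih =>
      rw [List.map_cons, evalS_cons, evalS_cons, ih, neg_add]
      congr 1
      push_cast
      rw [neg_mul, ← Matrix.single_neg]
  have h0 := evalS_eq_zero w (L ++ L'.map fun x => (x.1, x.2.1, x.2.2.1, -x.2.2.2))
    (fun x hx => of_decide_eq_true (List.all_eq_true.1 h x hx))
  rw [evalS_append, hneg, ← sub_eq_add_neg, sub_eq_zero] at h0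
  exact h0

end Cfsg.Agent.ChevOrth
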